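import Cfsg.Agent.Depth.Defs
import Cfsg.Agent.Depth.SDefs

/-!
# Depth (S5768): primes in progressions, safe prime data, main term (interface)
-/

set_option autoImplicit false

namespace Cfsg.Agent.Depth

open Finset

/-- `θ(x; W, c)` -/
noncomputable def th (W c : ℕ) (x : ℝ) : ℝ :=
  ∑ p ∈ (Icc 1 ⌊x⌋₊).filter (fun p => p.Prime ∧ p % W = c % W), Real.log p

/-- pointwise bounds in every reduced class -/
def PP (W : ℕ) (x0 lo up : ℝ) : Prop :=
  ∀ (c : ℕ) (x : ℝ), c.Coprime W → x0 ≤ x → lo * x / W.totient ≤ th W c x ∧ th W c x ≤ up * x / W.totient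

/-- bounds on `(x, 2x]` in every reduced class -/
def PI (W : ℕ) (x0 lo up : ℝ) : Prop :=
  ∀ (c : ℕ) (x : ℝ), c.Coprime W → x0 ≤ x →
    lo * x / W.totient ≤ th W c (2 * x) - th W c x ∧ th W c (2 * x) - th W c x ≤ up * x / W.totient

/-- size parameters of the eight windows -/
def kk (s : ℕ) : ℕ := [169, 155, 142, 130, 119, 109, 100, 92].getD s 92

/-- ramp length -/
def Yw (s : ℕ) : ℕ := 30720 * kk s

/-- left end -/
def Iw (s : ℕ) : ℕ := 9216 * kk s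

/-- a third of the window -/
def nw (s : ℕ) : ℕ := 51200 * kk s

/-- right end -/
def Ew (s : ℕ) : ℕ := Iw s + 5 * Yw s

/-- mass of the trapezoid -/
noncomputable def Tw (s : ℕ) : ℝ := 4 * (Yw s : ℝ) * Yw s

/-- the trapezoid `1_[0,4Y) * 1_[0,Y)` shifted by `I` -/
def tw (s i : ℕ) : ℕ := ((range (4 * Yw s) ×ˢ range (Yw s)).filter (fun x => Iw s + x.1 + x.2 = i)).card

/-- the windows `(r_s B, r_{s+1} B]` for `p₂`, in thousandths -/
def rw (s : ℕ) : ℕ := [1000, 1090, 1188, 1298, 1418, 1548, 1690, 1840, 2000].getD s 2000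

/-- local density of the weights on the class `r` mod `p` (mean `1`, zero at `r = 0, 1`) -/
def omQ (p r : ℕ) : ℚ :=
  if p = 7 then ([0, 0, 9, 5, 8, 5, 9].getD r 0 : ℕ) * 7 / 36
  else if p = 11 then ([0, 0, 8, 5, 7, 5, 7, 5, 7, 5, 8].getD r 0 : ℕ) * 11 / 57
  else if r ≤ 1 then 0 else p / (p - 2)

/-- the moduli of the model, as lists of primes -/
def QP : List (List ℕ) :=
  [[7], [11], [13], [17], [19], [23], [29], [31], [37], [41], [43], [47], [53], [59], [61], [67], [71], [73], [79],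
   [83], [89], [97], [101], [103], [107], [109], [113], [127], [131], [137], [139], [149], [151], [157], [163],
   [167], [173], [179], [181], [191], [193], [197], [199], [211], [223], [7, 11], [7, 13], [7, 17], [7, 19],
   [7, 23], [7, 29], [7, 31], [7, 37], [7, 41], [7, 43], [7, 47], [7, 53], [11, 13], [11, 17], [11, 19],
   [11, 23], [11, 29], [11, 31], [13, 17], [13, 19], [13, 23], [13, 29], [17, 19], [17, 23]]

/-- the model density at `l` -/
def rhoQ (l : ℕ) : ℚ := 1 + (QP.map fun ps => (ps.map fun p => omQ p (l % p) - 1).prod).sum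

/-- bound for the Fourier coefficients of `omQ p` -/
def cQ (p : ℕ) : ℚ := if p = 7 then 2901 / 10000 else if p = 11 then 1735 / 10000 else 2 / (p - 2)

/-- facts on the weights `lam` of the window `s` in the class `c1` -/
def LFacts (c1 s : ℕ) (e0 n8 n2 : ℝ) (lam : ℕ → ℝ) : Prop :=
  (∀ i, 0 ≤ lam i) ∧ (∀ i, lam i ≠ 0 → Iw s ≤ i ∧ i < Ew s ∧ Safe (60 * i + c1)) ∧
  ∑ i ∈ range (Ew s), lam i ^ 2 ≤ n2 * Tw s ^ 2 ∧
  ∃ P : Fin 3 → ℕ → ℝ, ∑ k, ∑ m ∈ range (4 * nw s), P k m ^ 2 ≤ n8 ∧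
    ∀ x : ℝ, ‖∑ i ∈ range (Ew s), ((lam i - tw s i * (rhoQ (60 * i + c1) : ℝ) : ℝ) : ℂ) * ex (x * i)‖ ≤
      Tw s * (e0 + (∑ k, ‖SS (4 * nw s) (P k) x‖ ^ 2) ^ (1 / 8 : ℝ))

/-- target eighth moments, in units of `10⁻²²` -/
def n8T (s : ℕ) : ℕ := [290, 350, 430, 520, 640, 790, 960, 1170].getD s 1170

/-- target second moments, in units of `10⁻⁹` -/
def n2T (s : ℕ) : ℕ := [1549, 1675, 1811, 1961, 2122, 2296, 2479, 2671].getD s 2671

/-- the safe prime data -/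
def LBox (c1 : ℕ) : Prop :=
  ∀ s, s < 8 → ∃ lam : ℕ → ℝ, LFacts c1 s 0.001 (n8T s / 10 ^ 22) (n2T s / 10 ^ 9) lam

/-- scale of `p₂` -/
noncomputable def BB (N : ℕ) : ℝ := N / 5910000000

/-- `p₂ = 60 j + 1` lies in the window `s` -/
def InW (N s j : ℕ) : Prop := rw s * BB N < 1000 * (60 * j + 1 : ℝ) ∧ 1000 * (60 * j + 1 : ℝ) ≤ rw (s + 1) * BB N

/-- the smoothed trapezoid for `b = 60 j + 2` -/
noncomputable def nuw (c1 s j y : ℕ) : ℝ :=
  if c1 * j ≤ y then tw s ((y - c1 * j) / (60 * j + 2)) / (Tw s * (60 * j + 2)) else 0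

/-- weighted primes in the class `c` mod 60 -/
noncomputable def aw (c : ℕ) (w : ℕ → ℝ) (u : ℕ) : ℝ := if (60 * u + c).Prime then w u * Real.log (60 * u + c) else 0

/-- facts on the weight `w` and the unit `U` -/
def MFacts (N N' c1 c3 c4 : ℕ) (w : ℕ → ℝ) (U : ℝ) : Prop :=
  0 < U ∧ (∀ u, 0 ≤ w u) ∧ (∀ u, w u ≠ 0 → N' ≤ 100 * u ∧ 100 * u ≤ 84 * N') ∧
  (∀ s j, s < 8 → InW N s j → 0.84 * U ≤ ∑ u ∈ range (N' + 1), ∑ v ∈ range (N' + 1),
    if u + v ≤ N' then aw c3 w u * aw c4 w v * nuw c1 s j (N' - u - v) else 0) ∧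
  ∑ u ∈ range (N' + 1), aw c3 w u ^ 2 ≤ (0.2736 * Real.log N - 0.24) * U ∧
  ∑ u ∈ range (N' + 1), aw c4 w u ^ 2 ≤ (0.2736 * Real.log N - 0.24) * U

/-- the main term -/
def MainBox : Prop :=
  ∀ N N' c1 c3 c4 : ℕ, 10 ^ 23 ≤ N → N = 60 * N' + 2 * c1 + c3 + c4 + 2 → c1 < 60 → c3 < 60 → c4 < 60 →
    c3.Coprime 60 → c4.Coprime 60 → ∃ w U, MFacts N N' c1 c3 c4 w U

end Cfsg.Agent.Depth
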